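import Groth.Agent.QCoh.Ab.Leray
import Mathlib.Algebra.Homology.HomologySequenceLemmas
import Mathlib.Algebra.Homology.DerivedCategory.Ext.ExtClass

/-!
# Naturality of Leray's comparison
-/

universe u

open CategoryTheory CategoryTheory.Limits TopologicalSpace Opposite CategoryTheory.Abelian

namespace Groth.Agent.QCoh.Ab

variable {X : TopCat.{u}} {ι : Type u} (U : ι → Opens X)

theorem exists_addEquiv_of_surjective {A B C : Type*} [AddCommGroup A] [AddCommGroup B]
    [AddCommGroup C] (a : A →+ B) (c : A →+ C) (ha : Function.Surjective a)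
    (hc : Function.Surjective c) (h : ∀ x, a x = 0 ↔ c x = 0) :
    ∃ e : B ≃+ C, ∀ x, e (a x) = c x :=
  let L := a.liftOfRightInverse (Function.surjInv ha) (Function.rightInverse_surjInv ha)
    ⟨c, fun x hx => (h x).1 hx⟩
  have hL : ∀ x, L (a x) = c x := fun x =>
    AddMonoidHom.liftOfRightInverse_comp_apply _ _ _ _ _
  ⟨AddEquiv.ofBijective L
    ⟨(injective_iff_map_eq_zero _).2 fun y hy => by
      obtain ⟨x, rfl⟩ := ha y
      rw [hL] at hy
      exact (h x).2 hy,
    fun z => by
      obtain ⟨x, rfl⟩ := hc z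
      exact ⟨a x, hL x⟩⟩, hL⟩

/-- Functoriality of the sequence of cochain complexes. -/
noncomputable def cochainSCMap {T T' : ShortComplex (CohTop.Ab X)} (φ : T ⟶ T') :
    cochainSC U T ⟶ cochainSC U T' where
  τ₁ := natCxMap U φ.τ₁.hom
  τ₂ := natCxMap U φ.τ₂.hom
  τ₃ := natCxMap U φ.τ₃.hom
  comm₁₂ := by
    ext p : 1
    refine AddCommGrpCat.ext fun c => Subtype.ext <| funext₂ fun σ W => ?_
    exact congr($(congrArg (fun ψ : T.X₁ ⟶ T'.X₂ => ψ.hom.app (op W.1)) φ.comm₁₂) _)
  comm₂₃ := by
    ext p : 1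
    refine AddCommGrpCat.ext fun c => Subtype.ext <| funext₂ fun σ W => ?_
    exact congr($(congrArg (fun ψ : T.X₂ ⟶ T'.X₃ => ψ.hom.app (op W.1)) φ.comm₂₃) _)

theorem connecting_naturality {T T' : ShortComplex (CohTop.Ab X)} (hT : T.ShortExact)
    (hT' : T'.ShortExact) (φ : T ⟶ T') (n : ℕ) (x : CohTop.H T.X₃ n) :
    Sheaf.H.map φ.τ₁ (n + 1) (connecting hT n x) = connecting hT' n (Sheaf.H.map φ.τ₃ n x) := by
  show (x.comp hT.extClass rfl).comp (Ext.mk₀ φ.τ₁) (add_zero _) =
    (x.comp (Ext.mk₀ φ.τ₃) (add_zero _)).comp hT'.extClass rfl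
  rw [Ext.comp_assoc_of_third_deg_zero, ShortComplex.ShortExact.extClass_naturality hT hT' φ,
    Ext.comp_assoc_of_second_deg_zero]

/-- The injective presentation used to shift degrees. -/
noncomputable abbrev pres (F : CohTop.Ab X) : ShortComplex (CohTop.Ab X) :=
  ShortComplex.mk (Injective.ι F) (cokernel.π (Injective.ι F)) (cokernel.condition _)

theorem pres_shortExact (F : CohTop.Ab X) : (pres F).ShortExact :=
  { exact := ShortComplex.exact_of_g_is_cokernel _ (cokernelIsCokernel _) }

/-- A morphism of the presentations above a morphism. -/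
noncomputable def presMap {F F' : CohTop.Ab X} (φ : F ⟶ F') : pres F ⟶ pres F' where
  τ₁ := φ
  τ₂ := Injective.factorThru (φ ≫ Injective.ι F') (Injective.ι F)
  τ₃ := cokernel.map _ _ φ (Injective.factorThru (φ ≫ Injective.ι F') (Injective.ι F))
    (Injective.comp_factorThru _ _)
  comm₁₂ := (Injective.comp_factorThru _ _).symm
  comm₂₃ := (cokernel.π_desc _ _ _).symm

variable {U} in
/-- Leray's comparison, natural in the sheaf. -/
theorem exists_natural_equiv (hcov : ⨆ i, U i = ⊤) {P : CohTop.Ab X → Prop}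
    (hP : SectionClass U P) (hI : ∀ I, Injective I → P I) (p : ℕ) :
    ∃ e : ∀ F : CohTop.Ab X, P F → ((natCx F.obj U).homology p : AddCommGrpCat.{u}) ≃+ CohTop.H F p,
      ∀ (F F' : CohTop.Ab X) (hF : P F) (hF' : P F') (φ : F ⟶ F') (x),
        e F' hF' (HomologicalComplex.homologyMap (natCxMap U φ.hom) p x) =
          Sheaf.H.map φ p (e F hF x) := by
  let e0 : ∀ G : CohTop.Ab X,
      CohTop.H G 0 ≃+ (natCx G.obj U).homology 0 := fun G =>
    (Sheaf.H.equiv₀ G isTerminalTop).trans
      (AddEquiv.ofBijective (topToH0 U G.obj).hom (topToH0_bijective U G hcov))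
  have he0 : ∀ (G G' : CohTop.Ab X) (φ : G ⟶ G') (y : CohTop.H G 0),
      HomologicalComplex.homologyMap (natCxMap U φ.hom) 0 (e0 G y) = e0 G' (Sheaf.H.map φ 0 y) :=
    fun G G' φ y => (ConcreteCategory.congr_hom (topToH0_naturality U φ.hom) _).trans
      (congrArg (topToH0 U G'.obj) (Sheaf.H.equiv₀_naturality isTerminalTop φ y))
  induction p with
  | zero =>
    exact ⟨fun F _ => (e0 F).symm, fun F F' _ _ φ x => (e0 F').injective <| by
      rw [← he0, AddEquiv.apply_symm_apply, AddEquiv.apply_symm_apply]⟩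
  | succ m ih =>
    obtain ⟨e, he⟩ := ih
    have hij : (ComplexShape.up ℕ).Rel m (m + 1) := rfl
    have hC : ∀ F (hF : P F), (cochainSC U (pres F)).ShortExact := fun F hF =>
      cochainSC_shortExact U (pres_shortExact F) (hP.lift (pres_shortExact F) hF)
    have hP₃ : ∀ F (hF : P F), P (pres F).X₃ := fun F hF =>
      hP.quot (pres_shortExact F) hF (Injective.injective_under F)
    have key : ∀ F (hF : P F), ∃ ε : ((natCx F.obj U).homology (m + 1) : AddCommGrpCat.{u}) ≃+
        CohTop.H F (m + 1), ∀ x, ε ((hC F hF).δ m (m + 1) hij x) =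
          connecting (pres_shortExact F) m (e _ (hP₃ F hF) x) := by
      intro F hF
      have hT := pres_shortExact F
      have hinj : Injective (pres F).X₂ := Injective.injective_under F
      have hv : ∀ k, Subsingleton (CohTop.H (pres F).X₂ (k + 1)) := fun k => inferInstance
      refine exists_addEquiv_of_surjective ((hC F hF).δ m (m + 1) hij).hom
        ((connecting hT m).comp (e _ (hP₃ F hF)).toAddMonoidHom) (fun x => ?_)
        ((connecting_surjective hT m (hv m)).comp (e _ (hP₃ F hF)).surjective) fun x => ?_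
      · exact (ShortComplex.ab_exact_iff _).1 ((hC F hF).homology_exact₁ m (m + 1) hij) x
          (@Subsingleton.elim _ (AddCommGrpCat.subsingleton_of_isZero
            (@isZero_natCx_homology_of_injective _ _ U (pres F).X₂ hinj m)) _ _)
      show (hC F hF).δ m (m + 1) hij x = 0 ↔ connecting hT m (e _ (hP₃ F hF) x) = 0
      rw [connecting_eq_zero_iff]
      constructor
      · intro h
        obtain ⟨z, hz⟩ :=
          (ShortComplex.ab_exact_iff _).1 ((hC F hF).homology_exact₃ m (m + 1) hij) x h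
        exact ⟨e _ (hI _ hinj) z, (he _ _ (hI _ hinj) (hP₃ F hF) (pres F).g z).symm.trans
          (congrArg _ hz)⟩
      · rintro ⟨y, hy⟩
        obtain ⟨z, rfl⟩ := (e _ (hI _ hinj)).surjective y
        rw [← he _ _ (hI _ hinj) (hP₃ F hF) (pres F).g] at hy
        rw [← (e _ (hP₃ F hF)).injective hy]
        exact ConcreteCategory.congr_hom ((hC F hF).comp_δ m (m + 1) hij) z
    choose ε hε using key
    refine ⟨ε, fun F F' hF hF' φ x => ?_⟩
    obtain ⟨y, rfl⟩ : ∃ y, (hC F hF).δ m (m + 1) hij y = x :=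
      (ShortComplex.ab_exact_iff _).1 ((hC F hF).homology_exact₁ m (m + 1) hij) x
        (@Subsingleton.elim _ (AddCommGrpCat.subsingleton_of_isZero
          (@isZero_natCx_homology_of_injective _ _ U (pres F).X₂ (Injective.injective_under F) m)) _ _)
    refine Eq.trans ?_ (congrArg (Sheaf.H.map φ (m + 1)) (hε F hF y)).symm
    refine Eq.trans ?_ ((connecting_naturality (pres_shortExact F) (pres_shortExact F')
      (presMap φ) m _).trans (congrArg (connecting (pres_shortExact F') m)
        (he _ _ (hP₃ F hF) (hP₃ F' hF') (presMap φ).τ₃ y).symm)).symm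
    refine Eq.trans ?_ (hε F' hF' _)
    exact congrArg (ε F' hF') (ConcreteCategory.congr_hom
      (HomologicalComplex.HomologySequence.δ_naturality (cochainSCMap U (presMap φ)) (hC F hF) (hC F' hF')
        m (m + 1) hij) y)

end Groth.Agent.QCoh.Ab
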