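import Groth.Agent.QCoh.Ab.Push
import Groth.Agent.QCoh.Ab.LerayNat

/-!
# Cohomology of a direct image, naturally in the sheaf
-/

universe u

open CategoryTheory CategoryTheory.Limits TopologicalSpace Opposite CategoryTheory.Abelian

namespace Groth.Agent.QCoh.Ab

variable {X Y : TopCat.{u}} (f : X ⟶ Y)

theorem H_push_natural (S : CoverSystem X) (hb : PreimageBasis f S) (i : ℕ) :
    ∃ e : ∀ F : CohTop.Ab X, S.Acyclic F → CohTop.H F i ≃+ CohTop.H ((CohTop.push f).obj F) i,
      ∀ (F F' : CohTop.Ab X) (hF : S.Acyclic F) (hF' : S.Acyclic F') (φ : F ⟶ F') (x),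
        e F' hF' (Sheaf.H.map φ i x) = Sheaf.H.map ((CohTop.push f).map φ) i (e F hF x) := by
  let e0 : ∀ G : CohTop.Ab X, CohTop.H G 0 ≃+ CohTop.H ((CohTop.push f).obj G) 0 := fun G =>
    (Sheaf.H.equiv₀ G isTerminalTop).trans (Sheaf.H.equiv₀ ((CohTop.push f).obj G) isTerminalTop).symm
  have he0 : ∀ (G G' : CohTop.Ab X) (φ : G ⟶ G') (y : CohTop.H G 0),
      e0 G' (Sheaf.H.map φ 0 y) = Sheaf.H.map ((CohTop.push f).map φ) 0 (e0 G y) := fun G G' φ y =>
    ((Sheaf.H.equiv₀_symm_naturality isTerminalTop ((CohTop.push f).map φ) _).trans (congrArg _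
      (Sheaf.H.equiv₀_naturality isTerminalTop φ y))).symm
  induction i with
  | zero => exact ⟨fun F _ => e0 F, fun F F' _ _ φ x => he0 F F' φ x⟩
  | succ m ih =>
    obtain ⟨e, he⟩ := ih
    have hI : ∀ F : CohTop.Ab X, S.Acyclic (pres F).X₂ := fun F _ _ _ U _ =>
      @acyclic_of_injective _ (pres F).X₂ (Injective.injective_under F) _ U
    have hP₃ : ∀ F, S.Acyclic F → S.Acyclic (pres F).X₃ := fun F hF =>
      Acyclic_X₃ S (pres_shortExact F) hF (hI F)
    have hT' : ∀ F, S.Acyclic F → ((pres F).map (CohTop.push f)).ShortExact := fun F hF =>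
      push_shortExact f (pres_shortExact F) hb hF
    have key : ∀ (F : CohTop.Ab X) (hF : S.Acyclic F), ∃ ε : CohTop.H F (m + 1) ≃+
        CohTop.H ((CohTop.push f).obj F) (m + 1), ∀ x,
          ε (connecting (pres_shortExact F) m x) = connecting (hT' F hF) m (e _ (hP₃ F hF) x) := by
      intro F hF
      have hT := pres_shortExact F
      have hinj : Injective (pres F).X₂ := Injective.injective_under F
      have hinj' : Injective ((pres F).map (CohTop.push f)).X₂ := SiteBase.injective_push f (pres F).X₂
      refine exists_addEquiv_of_surjective (connecting hT m)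
        ((connecting (hT' F hF) m).comp (e _ (hP₃ F hF)).toAddMonoidHom)
        (connecting_surjective hT m inferInstance)
        ((connecting_surjective (hT' F hF) m inferInstance).comp (e _ (hP₃ F hF)).surjective) fun x => ?_
      rw [connecting_eq_zero_iff]
      refine Iff.trans ?_ (connecting_eq_zero_iff (hT' F hF) m (e _ (hP₃ F hF) x)).symm
      constructor
      · rintro ⟨y, hy⟩
        exact ⟨e _ (hI F) y, (he _ _ (hI F) (hP₃ F hF) (pres F).g y).symm.trans (congrArg _ hy)⟩
      · rintro ⟨z, hz⟩
        refine ⟨(e _ (hI F)).symm z, (e _ (hP₃ F hF)).injective ?_⟩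
        exact (he _ _ (hI F) (hP₃ F hF) (pres F).g _).trans
          ((congrArg (Sheaf.H.map ((CohTop.push f).map (pres F).g) m)
            ((e _ (hI F)).apply_symm_apply z)).trans hz)
    choose ε hε using key
    refine ⟨ε, fun F F' hF hF' φ x => ?_⟩
    obtain ⟨y, rfl⟩ : ∃ y, connecting (pres_shortExact F) m y = x :=
      connecting_surjective (pres_shortExact F) m
        (haveI : Injective (pres F).X₂ := Injective.injective_under F; inferInstance) x
    have h1 : Sheaf.H.map φ (m + 1) (connecting (pres_shortExact F) m y) =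
        connecting (pres_shortExact F') m (Sheaf.H.map (presMap φ).τ₃ m y) :=
      connecting_naturality (pres_shortExact F) (pres_shortExact F') (presMap φ) m y
    rw [h1, hε, hε, he _ _ (hP₃ F hF) (hP₃ F' hF')]
    exact (connecting_naturality (hT' F hF) (hT' F' hF')
      ((CohTop.push f).mapShortComplex.map (presMap φ)) m _).symm

end Groth.Agent.QCoh.Ab
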