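import Groth.Agent.QCoh.Ab.Cech
import Mathlib.CategoryTheory.Sites.SheafCohomology.Cech
import Mathlib.CategoryTheory.Limits.Lattice
import Mathlib.Algebra.Category.Grp.Limits
import Mathlib.Algebra.Category.Grp.Abelian
import Mathlib.Algebra.Homology.ShortComplex.Ab
import Mathlib.Algebra.Homology.ShortComplex.HomologicalComplex

/-!
# Mathlib's Čech complex in terms of element-wise cochains
-/

universe u

open CategoryTheory CategoryTheory.Limits TopologicalSpace Opposite Simplicial

namespace Groth.Agent.QCoh.Ab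

variable {X : TopCat.{u}} {ι : Type u} (P : TopCat.Presheaf AddCommGrpCat.{u} X) (U : ι → Opens X)

/-- Cochains compatible with restriction. -/
def natCochains (p : ℕ) : AddSubgroup (Cochain P U p) where
  carrier := {c | IsNatural c}
  add_mem' {a b} ha hb := fun σ W W' h h' i => by
    show P.map i.op (a σ ⟨W, h⟩ + b σ ⟨W, h⟩) = a σ ⟨W', h'⟩ + b σ ⟨W', h'⟩
    rw [map_add, ha σ W W' h h' i, hb σ W W' h h' i]
  zero_mem' := fun σ W W' h h' i => map_zero _
  neg_mem' {a} ha := fun σ W W' h h' i => by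
    show P.map i.op (- a σ ⟨W, h⟩) = - a σ ⟨W', h'⟩
    rw [map_neg, ha σ W W' h h' i]

theorem d_add {p : ℕ} (c c' : Cochain P U p) : d (c + c') = d c + d c' := by
  funext σ W
  simp [d, smul_add, Finset.sum_add_distrib]

/-- The differential on natural cochains. -/
def natD (p : ℕ) : AddCommGrpCat.of (natCochains P U (p + 1)) ⟶
    AddCommGrpCat.of (natCochains P U (p + 2)) :=
  AddCommGrpCat.ofHom (AddMonoidHom.mk' (fun c => ⟨d c.1, d_natural c.2⟩)
    fun a b => Subtype.ext (d_add P U a.1 b.1))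

/-- The complex of natural cochains. -/
noncomputable def natCx : CochainComplex AddCommGrpCat.{u} ℕ :=
  CochainComplex.of (fun p => AddCommGrpCat.of (natCochains P U (p + 1))) (natD P U) fun p => by
    ext c σ W
    exact congrFun (congrFun (d_d c.1) σ) W

theorem natCx_d (p : ℕ) : (natCx P U).d p (p + 1) = natD P U p := by
  simp [natCx]

theorem le_pi {p : ℕ} {σ : Fin (p + 1) → ι} {W : Opens X} (h : Le U σ W) : W ≤ ∏ᶜ (U ∘ σ) :=
  leOfHom (Pi.lift fun a => homOfLE (h a) : W ⟶ ∏ᶜ (U ∘ σ))

theorem pi_le {p : ℕ} (σ : Fin (p + 1) → ι) : Le U σ (∏ᶜ (U ∘ σ)) :=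
  fun a => leOfHom (Pi.π (U ∘ σ) a)

/-- The terms of Mathlib's Čech complex. -/
noncomputable abbrev cechX (p : ℕ) : AddCommGrpCat.{u} :=
  ∏ᶜ fun σ : Fin (p + 1) → ι => P.obj (op (∏ᶜ (U ∘ σ)))

theorem map_map'' {A B C : Opens X} (i : B ⟶ A) (j : C ⟶ B) (k : C ⟶ A) (x : P.obj (op A)) :
    P.map j.op (P.map i.op x) = P.map k.op x := by
  rw [Subsingleton.elim k (j ≫ i), op_comp, Functor.map_comp]
  rfl

theorem map_self {A : Opens X} (i : A ⟶ A) (x : P.obj (op A)) : P.map i.op x = x := by
  rw [Subsingleton.elim i (𝟙 A), op_id, P.map_id]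
  rfl

/-- The projections of the terms of Mathlib's Čech complex. -/
noncomputable abbrev proj {p : ℕ} (σ : Fin (p + 1) → ι) :
    cechX P U p ⟶ P.obj (op (∏ᶜ (U ∘ σ))) :=
  Pi.π (fun σ : Fin (p + 1) → ι => P.obj (op (∏ᶜ (U ∘ σ)))) σ

/-- A natural cochain of the product of the terms. -/
noncomputable def ofNat (p : ℕ) : AddCommGrpCat.of (natCochains P U (p + 1)) ⟶ cechX P U p :=
  Pi.lift fun σ => AddCommGrpCat.ofHom (AddMonoidHom.mk'
    (fun c => c.1 σ ⟨_, pi_le U σ⟩) fun _ _ => rfl)

theorem ofNat_π (p : ℕ) (c : natCochains P U (p + 1)) (σ : Fin (p + 1) → ι) :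
    proj P U σ (ofNat P U p c) =
      c.1 σ ⟨_, pi_le U σ⟩ :=
  ConcreteCategory.congr_hom (show ofNat P U p ≫ proj P U σ = _ from Pi.lift_π _ σ) c

/-- The natural cochain of an element of the product. -/
noncomputable def toNat (p : ℕ) : cechX P U p ⟶ AddCommGrpCat.of (natCochains P U (p + 1)) :=
  AddCommGrpCat.ofHom (AddMonoidHom.mk' (fun x => ⟨fun σ W =>
      P.map (homOfLE (le_pi U W.2)).op
        (proj P U σ x),
      fun σ W W' h h' i => map_map'' P _ i _ _⟩)
    fun a b => Subtype.ext <| funext₂ fun σ W => by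
      show P.map _ (proj P U σ (a + b)) = P.map _ (proj P U σ a) + P.map _ (proj P U σ b)
      rw [map_add, map_add])

/-- The terms of the two complexes agree. -/
noncomputable def termIso (p : ℕ) :
    AddCommGrpCat.of (natCochains P U (p + 1)) ≅ cechX P U p where
  hom := ofNat P U p
  inv := toNat P U p
  hom_inv_id := by
    ext c σ W
    show P.map _ (proj P U σ (ofNat P U p c)) = c.1 σ W
    rw [ofNat_π]
    exact c.2 σ _ W.1 _ W.2 _
  inv_hom_id := by
    refine Pi.hom_ext _ _ fun σ => ?_
    ext x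
    show proj P U σ (ofNat P U p (toNat P U p x)) = proj P U σ x
    rw [ofNat_π]
    exact map_self P _ _

theorem hom_sum_apply {α : Type*} {A B : AddCommGrpCat.{u}} (s : Finset α) (f : α → (A ⟶ B))
    (x : A) : (∑ i ∈ s, f i) x = ∑ i ∈ s, f i x :=
  map_sum (AddMonoidHom.mk' (fun g : A ⟶ B => g x) fun _ _ => rfl) f s

/-- Mathlib's Čech complex is the complex of natural cochains. -/
noncomputable def cechIso : natCx P U ≅ (cechComplexFunctor U).obj P :=
  HomologicalComplex.Hom.isoOfComponents (fun p => termIso P U p) (by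
    rintro p q (rfl : p + 1 = q)
    refine Pi.hom_ext _ _ fun σ => ?_
    have e : ((cechComplexFunctor U).obj P).d p (p + 1) =
        AlgebraicTopology.AlternatingCofaceMapComplex.objD
          ((FormalCoproduct.cosimplicialObjectFunctor (FormalCoproduct.mk _ U).cech).obj P) p := by
      simp [cechComplexFunctor, FormalCoproduct.cochainComplexFunctor,
        AlgebraicTopology.alternatingCofaceMapComplex,
        AlgebraicTopology.AlternatingCofaceMapComplex.obj]
    rw [e, natCx_d]
    ext c
    have hδ : ∀ (a : Fin (p + 2)),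
        proj P U σ (((FormalCoproduct.cosimplicialObjectFunctor
          (FormalCoproduct.mk _ U).cech).obj P).δ a (ofNat P U p c)) =
        c.1 (fun b => σ (a.succAbove b)) ⟨_, fun b => pi_le U σ (a.succAbove b)⟩ := by
      intro a
      refine (ConcreteCategory.congr_hom (Pi.lift_π _ σ) (ofNat P U p c)).trans ?_
      refine (congrArg (P.map _) (ofNat_π P U p c _)).trans ?_
      exact c.2 _ _ _ _ _ _
    show proj P U σ (AlgebraicTopology.AlternatingCofaceMapComplex.objD
      ((FormalCoproduct.cosimplicialObjectFunctor (FormalCoproduct.mk _ U).cech).obj P) p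
        (ofNat P U p c)) = proj P U σ (ofNat P U (p + 1) (natD P U p c))
    refine Eq.trans ?_ (ofNat_π P U (p + 1) (natD P U p c) σ).symm
    rw [AlgebraicTopology.AlternatingCofaceMapComplex.objD]
    refine (congrArg (proj P U σ) (hom_sum_apply _ _ _)).trans ?_
    refine (map_sum _ _ _).trans ?_
    refine Finset.sum_congr rfl fun a _ => ?_
    refine (map_zsmul _ _ _).trans ?_
    rw [hδ])

theorem exactAt_iff_acyclic :
    (∀ p, ((cechComplexFunctor U).obj P).ExactAt (p + 1)) ↔ Acyclic P U := by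
  refine forall_congr' fun p => ?_
  rw [HomologicalComplex.exactAt_iff_isZero_homology,
    ← (HomologicalComplex.homologyMapIso (cechIso P U) (p + 1)).isZero_iff,
    ← HomologicalComplex.exactAt_iff_isZero_homology,
    HomologicalComplex.exactAt_iff' _ p (p + 1) (p + 2) (by simp) (by simp),
    ShortComplex.ab_exact_iff]
  simp only [HomologicalComplex.sc', HomologicalComplex.shortComplexFunctor'_obj_f,
    HomologicalComplex.shortComplexFunctor'_obj_g, natCx_d]
  constructor
  · intro h c hc hd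
    obtain ⟨b, hb⟩ := h ⟨c, hc⟩ (Subtype.ext hd)
    exact ⟨b.1, b.2, congrArg Subtype.val hb⟩
  · intro h c hd
    obtain ⟨b, hbn, hb⟩ := h c.1 c.2 (congrArg Subtype.val hd)
    exact ⟨⟨b, hbn⟩, Subtype.ext hb⟩

end Groth.Agent.QCoh.Ab
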