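import Groth.Agent.QCoh.Ab.Cartan
import Groth.Agent.SiteBase.Top
import Groth.Prelude.Def_CohTop
import Mathlib.Algebra.Homology.ShortComplex.ShortExact

/-!
# Cohomology of a direct image of abelian sheaves

If `F` is Čech acyclic for a cover system whose distinguished opens contain the preimages of a
basis of `Y`, then `Hⁱ(X, F) ≃+ Hⁱ(Y, f_* F)`.
-/

universe u

open CategoryTheory CategoryTheory.Limits TopologicalSpace Opposite CategoryTheory.Abelian

namespace Groth.Agent.QCoh.Ab

theorem nonempty_addEquiv_of_surjective {A B C : Type*} [AddCommGroup A] [AddCommGroup B]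
    [AddCommGroup C] (a : A →+ B) (c : A →+ C) (ha : Function.Surjective a)
    (hc : Function.Surjective c) (h : ∀ x, a x = 0 ↔ c x = 0) : Nonempty (B ≃+ C) := by
  have hk : a.ker = c.ker := AddSubgroup.ext h
  exact ⟨((QuotientAddGroup.quotientKerEquivOfSurjective a ha).symm.trans
    (QuotientAddGroup.quotientAddEquivOfEq hk)).trans
    (QuotientAddGroup.quotientKerEquivOfSurjective c hc)⟩

section connecting

variable {X : TopCat.{u}} {T : ShortComplex (CohTop.Ab X)}

/-- The connecting map in cohomology. -/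
noncomputable def connecting (hT : T.ShortExact) (n : ℕ) :
    CohTop.H T.X₃ n →+ CohTop.H T.X₁ (n + 1) :=
  hT.extClass.postcomp _ rfl

theorem connecting_surjective (hT : T.ShortExact) (n : ℕ)
    (h : Subsingleton (CohTop.H T.X₂ (n + 1))) : Function.Surjective (connecting hT n) := fun x =>
  Ext.covariant_sequence_exact₁ _ hT x (Subsingleton.elim _ _) rfl

theorem connecting_eq_zero_iff (hT : T.ShortExact) (n : ℕ) (x : CohTop.H T.X₃ n) :
    connecting hT n x = 0 ↔ ∃ y, Sheaf.H.map T.g n y = x := by
  refine ⟨fun h => Ext.covariant_sequence_exact₃ _ hT x rfl h, ?_⟩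
  rintro ⟨y, rfl⟩
  show (y.comp (Ext.mk₀ T.g) (add_zero n)).comp hT.extClass rfl = 0
  rw [Ext.comp_assoc_of_second_deg_zero]
  exact (congrArg (fun z => Ext.comp y z _) hT.comp_extClass).trans (Ext.comp_zero _ _ _ _ _)

theorem connecting_bijective (hT : T.ShortExact) (n : ℕ)
    (h₂ : Subsingleton (CohTop.H T.X₂ n)) (h₂' : Subsingleton (CohTop.H T.X₂ (n + 1))) :
    Function.Bijective (connecting hT n) := by
  refine ⟨(injective_iff_map_eq_zero _).2 fun x hx => ?_, connecting_surjective hT n h₂'⟩
  obtain ⟨y, rfl⟩ := (connecting_eq_zero_iff hT n x).1 hx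
  rw [Subsingleton.elim y 0, map_zero]

end connecting

variable {X Y : TopCat.{u}} (f : X ⟶ Y)

/-- Good opens of `X` contain preimages of arbitrarily small opens of `Y`. -/
def PreimageBasis (S : CoverSystem X) : Prop :=
  ∀ (U : Opens Y) (y : Y), y ∈ U → ∃ W : Opens Y, W ≤ U ∧ y ∈ W ∧ S.Good ((Opens.map f).obj W)

theorem push_shortExact {T : ShortComplex (CohTop.Ab X)} (hT : T.ShortExact)
    {S : CoverSystem X} (hb : PreimageBasis f S) (h₁ : S.Acyclic T.X₁) :
    (T.map (CohTop.push f)).ShortExact := by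
  have hadj := TopCat.Sheaf.pullbackPushforwardAdjunction AddCommGrpCat.{u} f
  have : (CohTop.push f).IsRightAdjoint := hadj.isRightAdjoint
  have := hT.mono_f
  have : Mono (T.map (CohTop.push f)).f := inferInstanceAs (Mono ((CohTop.push f).map T.f))
  have : Epi (T.map (CohTop.push f)).g := by
    refine (TopCat.Sheaf.isLocallySurjective_iff_epi _).1
      ((TopCat.Presheaf.isLocallySurjective_iff _).2 fun U t y hy => ?_)
    obtain ⟨W, hWU, hyW, hW⟩ := hb U y hy
    exact ⟨W, hWU, sections_surjective S hT h₁ hW _, hyW⟩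
  exact
    { exact := ShortComplex.exact_of_f_is_kernel _
        (KernelFork.mapIsLimit _ hT.fIsKernel (CohTop.push f)) }

theorem H_push_equiv (S : CoverSystem X) (hb : PreimageBasis f S) (F : CohTop.Ab X)
    (hF : S.Acyclic F) (i : ℕ) :
    Nonempty (CohTop.H F i ≃+ CohTop.H ((CohTop.push f).obj F) i) := by
  have base : ∀ G : CohTop.Ab X, Nonempty (CohTop.H G 0 ≃+ CohTop.H ((CohTop.push f).obj G) 0) :=
    fun G => ⟨(Sheaf.H.equiv₀ G isTerminalTop).trans
      (Sheaf.H.equiv₀ ((CohTop.push f).obj G) isTerminalTop).symm⟩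
  induction i using Nat.strong_induction_on generalizing F with
  | _ i ih =>
    match i with
    | 0 => exact base F
    | m + 1 =>
      let T : ShortComplex (CohTop.Ab X) :=
        ShortComplex.mk (Injective.ι F) (cokernel.π (Injective.ι F)) (cokernel.condition _)
      have hT : T.ShortExact :=
        { exact := ShortComplex.exact_of_g_is_cokernel _ (cokernelIsCokernel _) }
      have hinj : Injective T.X₂ := Injective.injective_under F
      have h₂ : S.Acyclic T.X₂ := fun _ _ _ U _ => @acyclic_of_injective _ T.X₂ hinj _ U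
      have hQ : S.Acyclic T.X₃ := Acyclic_X₃ S hT hF h₂
      have hT' := push_shortExact f hT hb hF
      have hinj' : Injective (T.map (CohTop.push f)).X₂ := SiteBase.injective_push f T.X₂
      have hv : ∀ k, Subsingleton (CohTop.H T.X₂ (k + 1)) := fun k => inferInstance
      have hv' : ∀ k, Subsingleton (CohTop.H (T.map (CohTop.push f)).X₂ (k + 1)) :=
        fun k => inferInstance
      match m with
      | 0 =>
        let e₂ := (Sheaf.H.equiv₀ T.X₂ isTerminalTop).trans
          (Sheaf.H.equiv₀ (T.map (CohTop.push f)).X₂ isTerminalTop).symm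
        let e₃ := (Sheaf.H.equiv₀ T.X₃ isTerminalTop).trans
          (Sheaf.H.equiv₀ (T.map (CohTop.push f)).X₃ isTerminalTop).symm
        have hn : ∀ y, Sheaf.H.map (T.map (CohTop.push f)).g 0 (e₂ y) = e₃ (Sheaf.H.map T.g 0 y) :=
          fun y => (Sheaf.H.equiv₀_symm_naturality isTerminalTop _ _).trans (congrArg _
            (Sheaf.H.equiv₀_naturality isTerminalTop T.g y))
        refine nonempty_addEquiv_of_surjective (connecting hT 0)
          ((connecting hT' 0).comp e₃.toAddMonoidHom) (connecting_surjective hT 0 (hv 0))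
          ((connecting_surjective hT' 0 (hv' 0)).comp e₃.surjective) fun x => ?_
        rw [connecting_eq_zero_iff]
        refine Iff.trans ?_ (connecting_eq_zero_iff hT' 0 (e₃ x)).symm
        exact ⟨fun ⟨y, hy⟩ => ⟨e₂ y, by rw [hn, hy]⟩, fun ⟨z, hz⟩ => ⟨e₂.symm z, e₃.injective <| by
          rw [← hn, AddEquiv.apply_symm_apply, hz]⟩⟩
      | m + 1 =>
        obtain ⟨e⟩ := ih (m + 1) (Nat.lt_succ_self _) T.X₃ hQ
        exact ⟨((AddEquiv.ofBijective _ (connecting_bijective hT (m + 1) (hv m) (hv (m + 1)))).symm.trans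
          e).trans (AddEquiv.ofBijective _ (connecting_bijective hT' (m + 1) (hv' m) (hv' (m + 1))))⟩

end Groth.Agent.QCoh.Ab
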