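import Groth.Agent.QCoh.Ab.Cartan
import Groth.Agent.QCoh.Ab.CechBridge
import Groth.Agent.QCoh.Ab.Push
import Mathlib.Algebra.Homology.HomologySequence
import Mathlib.Algebra.Homology.HomologicalComplexAbelian

/-!
# Leray's theorem: Čech cohomology of a covering with acyclic intersections
-/

universe u

open CategoryTheory CategoryTheory.Limits TopologicalSpace Opposite

namespace Groth.Agent.QCoh.Ab

variable {X : TopCat.{u}} {ι : Type u} (U : ι → Opens X)

/-- A class of sheaves whose short exact sequences stay exact on the intersections of `U`. -/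
structure SectionClass (P : CohTop.Ab X → Prop) : Prop where
  lift : ∀ {T : ShortComplex (CohTop.Ab X)}, T.ShortExact → P T.X₁ →
    ∀ {p : ℕ} (σ : Fin (p + 1) → ι), Function.Surjective (T.g.hom.app (op (⨅ a, U (σ a))))
  quot : ∀ {T : ShortComplex (CohTop.Ab X)}, T.ShortExact → P T.X₁ →
    Injective T.X₂ → P T.X₃

variable {P Q R : TopCat.Presheaf AddCommGrpCat.{u} X}

/-- Functoriality of natural cochains. -/
noncomputable def natCxMap (φ : P ⟶ Q) : natCx P U ⟶ natCx Q U where
  f p := AddCommGrpCat.ofHom (AddMonoidHom.mk'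
    (fun c : natCochains P U (p + 1) =>
      (⟨push φ c.1, push_natural φ c.2⟩ : natCochains Q U (p + 1)))
    fun a b => Subtype.ext <| funext₂ fun σ W =>
      map_add (φ.app (op W.1)).hom (a.1 σ W) (b.1 σ W))
  comm' p q h := by
    obtain rfl : p + 1 = q := h
    rw [natCx_d, natCx_d]
    refine AddCommGrpCat.ext fun c => Subtype.ext <| funext₂ fun σ W => ?_
    exact congrFun (congrFun (d_push φ (c : natCochains P U (p + 1)).1) σ) W

theorem natCxMap_apply (φ : P ⟶ Q) (p : ℕ) (c : natCochains P U (p + 1)) :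
    ((natCxMap U φ).f p c : natCochains Q U (p + 1)).1 = push φ c.1 := rfl

variable {T : ShortComplex (CohTop.Ab X)}

variable (T) in
/-- The sequence of cochain complexes. -/
noncomputable def cochainSC : ShortComplex (CochainComplex AddCommGrpCat.{u} ℕ) :=
  ShortComplex.mk (natCxMap U T.f.hom) (natCxMap U T.g.hom) <| by
    ext p : 1
    refine AddCommGrpCat.ext fun c => Subtype.ext <| funext₂ fun σ W => ?_
    exact g_f_zero W.1 _

theorem cochainSC_shortExact (hT : T.ShortExact)
    (hlift : ∀ {p : ℕ} (σ : Fin (p + 1) → ι), Function.Surjective (T.g.hom.app (op (⨅ a, U (σ a))))) :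
    (cochainSC U T).ShortExact := by
  refine HomologicalComplex.shortExact_of_degreewise_shortExact _ fun p => ?_
  refine ShortComplex.ShortExact.mk' ?_ ?_ ?_
  · exact (ShortComplex.ab_exact_iff _).2 fun c hc => by
      obtain ⟨a, ha, h⟩ := exists_cochain_lift hT (c : natCochains T.X₂.obj U (p + 1)).1
        (c : natCochains T.X₂.obj U (p + 1)).2 (congrArg Subtype.val hc)
      exact ⟨(⟨a, ha⟩ : natCochains T.X₁.obj U (p + 1)), Subtype.ext h⟩
  · exact (AddCommGrpCat.mono_iff_injective _).2 fun a b h =>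
      Subtype.ext (push_f_injective hT (congrArg Subtype.val h))
  · refine (AddCommGrpCat.epi_iff_surjective _).2 fun q => ?_
    choose l hl using fun σ : Fin (p + 1) → ι =>
      hlift σ ((q : natCochains T.X₃.obj U (p + 1)).1 σ ⟨⨅ a, U (σ a), fun a => iInf_le _ a⟩)
    refine ⟨(⟨fun σ W => T.X₂.obj.map (homOfLE (le_iInf W.2)).op (l σ),
      fun σ W W' hW hW' i => map_map'' _ _ _ _ _⟩ : natCochains T.X₂.obj U (p + 1)),
      Subtype.ext <| funext₂ fun σ W => ?_⟩
    refine (congr($(T.g.hom.naturality (homOfLE (le_iInf W.2)).op) (l σ))).trans ?_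
    refine (congrArg _ (hl σ)).trans ?_
    exact (q : natCochains T.X₃.obj U (p + 1)).2 σ _ W.1 _ W.2 _

/-- A global section as a natural cochain. -/
noncomputable def ofTop (P : TopCat.Presheaf AddCommGrpCat.{u} X) :
    P.obj (op ⊤) ⟶ (natCx P U).X 0 :=
  AddCommGrpCat.ofHom (AddMonoidHom.mk' (fun s : P.obj (op ⊤) =>
      (⟨fun _ W => P.map (homOfLE le_top).op s,
        fun σ W W' hW hW' i => map_map'' P _ i _ s⟩ : natCochains P U 1))
    fun a b => Subtype.ext <| funext₂ fun σ W => map_add (P.map _).hom a b)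

theorem ofTop_d (P : TopCat.Presheaf AddCommGrpCat.{u} X) :
    ofTop U P ≫ (natCx P U).d 0 1 = 0 := by
  rw [natCx_d]
  refine AddCommGrpCat.ext fun s => Subtype.ext <| funext₂ fun σ W => ?_
  show ∑ a : Fin 2, (-1 : ℤ) ^ (a : ℕ) • P.map _ s = (0 : P.obj (op W.1))
  rw [Fin.sum_univ_two]
  simp

/-- Global sections to Čech cohomology in degree zero. -/
noncomputable def topToH0 (P : TopCat.Presheaf AddCommGrpCat.{u} X) :
    P.obj (op ⊤) ⟶ (natCx P U).homology 0 :=
  (natCx P U).liftCycles (ofTop U P) 1 (by simp) (ofTop_d U P) ≫ (natCx P U).homologyπ 0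

theorem topToH0_naturality (φ : P ⟶ Q) :
    topToH0 U P ≫ HomologicalComplex.homologyMap (natCxMap U φ) 0 =
      φ.app (op ⊤) ≫ topToH0 U Q := by
  rw [topToH0, topToH0, Category.assoc, HomologicalComplex.homologyπ_naturality,
    HomologicalComplex.liftCycles_comp_cyclesMap_assoc, HomologicalComplex.comp_liftCycles_assoc]
  congr 2
  refine AddCommGrpCat.ext fun s => Subtype.ext <| funext₂ fun σ W => ?_
  exact congr($(φ.naturality (homOfLE le_top).op) s)

theorem topToH0_bijective (F : CohTop.Ab X) (hcov : ⨆ i, U i = ⊤) :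
    Function.Bijective (topToH0 U F.obj) := by
  let K := natCx F.obj U
  have hπ : IsIso (K.homologyπ 0) := CochainComplex.isIso_homologyπ₀ K
  have hi : Function.Injective (K.iCycles 0) := (AddCommGrpCat.mono_iff_injective _).1 inferInstance
  let γ : F.obj.obj (op ⊤) ⟶ K.cycles 0 :=
    K.liftCycles (ofTop U F.obj) 1 (by simp) (ofTop_d U _)
  have hγ : ∀ s, K.iCycles 0 (γ s) = ofTop U F.obj s := fun s =>
    ConcreteCategory.congr_hom (K.liftCycles_i _ _ _ _) s
  suffices h : Function.Bijective γ by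
    exact (ConcreteCategory.bijective_of_isIso (K.homologyπ 0)).comp h
  refine ⟨fun s t hst => ?_, fun x => ?_⟩
  · refine TopCat.Sheaf.eq_of_locally_eq' F U ⊤ (fun i => homOfLE le_top) hcov.ge s t fun i => ?_
    have e := congrArg (K.iCycles 0) hst
    rw [hγ, hγ] at e
    exact congrFun (congrFun (congrArg Subtype.val e) fun _ => i) ⟨U i, fun _ => le_rfl⟩
  · let c : natCochains F.obj U 1 := K.iCycles 0 x
    have hd : d c.1 = 0 := by
      have e := ConcreteCategory.congr_hom (K.iCycles_d 0 1) x
      rw [natCx_d] at e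
      exact congrArg Subtype.val e
    obtain ⟨s, hs, -⟩ := TopCat.Sheaf.existsUnique_gluing' F U ⊤ (fun i => homOfLE le_top) hcov.ge
      (fun i => c.1 (fun _ => i) ⟨U i, fun _ => le_rfl⟩) (fun i j => by
        refine (c.2 (fun _ => i) (U i) (U i ⊓ U j) (fun _ => le_rfl) (fun _ => inf_le_left) _).trans
          (Eq.trans ?_ (c.2 (fun _ => j) (U j) (U i ⊓ U j) (fun _ => le_rfl)
            (fun _ => inf_le_right) _).symm)
        have hW : Le U ![i, j] (U i ⊓ U j) := Fin.forall_fin_two.2 ⟨inf_le_left, inf_le_right⟩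
        have e' : d c.1 ![i, j] ⟨_, hW⟩ =
            c.1 (fun b => ![i, j] ((0 : Fin 2).succAbove b)) ⟨_, fun b => hW _⟩ -
              c.1 (fun b => ![i, j] ((1 : Fin 2).succAbove b)) ⟨_, fun b => hW _⟩ := by
          refine (Fin.sum_univ_two _).trans ?_
          simp [sub_eq_add_neg]
        have e := sub_eq_zero.1 (e'.symm.trans (congrFun (congrFun hd ![i, j]) ⟨_, hW⟩))
        have congr' : ∀ (τ τ' : Fin 1 → ι) (_ : τ = τ') (h : Le U τ (U i ⊓ U j))
            (h' : Le U τ' (U i ⊓ U j)), c.1 τ ⟨_, h⟩ = c.1 τ' ⟨_, h'⟩ := by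
          rintro _ _ rfl _ _; rfl
        exact (congr' (fun _ => i) (fun b => ![i, j] ((1 : Fin 2).succAbove b))
            (funext fun k => by fin_cases k; rfl) _ _).trans
          (e.symm.trans (congr' (fun b => ![i, j] ((0 : Fin 2).succAbove b)) (fun _ => j)
            (funext fun k => by fin_cases k; rfl) _ _)))
    refine ⟨s, hi ((hγ s).trans (Subtype.ext <| funext₂ fun σ W => ?_))⟩
    show F.obj.map _ s = c.1 σ W
    obtain ⟨i, rfl⟩ : ∃ i, σ = fun _ => i := ⟨σ 0, funext fun k => by rw [show k = 0 from Fin.ext (by omega)]⟩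
    refine (map_map'' F.obj (homOfLE le_top) (homOfLE (W.2 0)) _ s).symm.trans ?_
    refine (congrArg _ (hs i)).trans ?_
    exact c.2 _ _ W.1 _ W.2 _

theorem isZero_natCx_homology_of_injective (I : CohTop.Ab X) [hI : Injective I]
    (p : ℕ) : IsZero ((natCx I.obj U).homology (p + 1)) := by
  refine IsZero.of_iso ?_ (HomologicalComplex.homologyMapIso (cechIso I.obj U) (p + 1))
  exact ((exactAt_iff_acyclic _ _).2 (@acyclic_of_injective _ I hI _ U) p).isZero_homology

variable {U} in
theorem natCx_H_equiv (hcov : ⨆ i, U i = ⊤) {P : CohTop.Ab X → Prop}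
    (hP : SectionClass U P) (F : CohTop.Ab X) (hF : P F) (p : ℕ)
    :
    Nonempty (((natCx F.obj U).homology p : AddCommGrpCat.{u}) ≃+
      CohTop.H F p) := by
  let e0 : ∀ G : CohTop.Ab X,
      CohTop.H G 0 ≃+ (natCx G.obj U).homology 0 := fun G =>
    (Sheaf.H.equiv₀ G isTerminalTop).trans
      (AddEquiv.ofBijective (topToH0 U G.obj).hom (topToH0_bijective U G hcov))
  induction p using Nat.strong_induction_on generalizing F with
  | _ p ih =>
    match p with
    | 0 => exact ⟨(e0 F).symm⟩
    | m + 1 =>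
      let T : ShortComplex (CohTop.Ab X) :=
        ShortComplex.mk (Injective.ι F) (cokernel.π (Injective.ι F)) (cokernel.condition _)
      have hT : T.ShortExact :=
        { exact := ShortComplex.exact_of_g_is_cokernel _ (cokernelIsCokernel _) }
      have hinj : Injective T.X₂ := Injective.injective_under F
      have hC := cochainSC_shortExact U hT (hP.lift hT hF)
      have hz : ∀ k, IsZero ((natCx T.X₂.obj U).homology (k + 1)) := fun k =>
        @isZero_natCx_homology_of_injective _ _ U T.X₂ hinj k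
      have hv : ∀ k, Subsingleton (CohTop.H T.X₂ (k + 1)) := fun k => inferInstance
      have hij : (ComplexShape.up ℕ).Rel m (m + 1) := rfl
      have hsurj : Function.Surjective (hC.δ m (m + 1) hij) := fun x => by
        have h := (ShortComplex.ab_exact_iff _).1 (hC.homology_exact₁ m (m + 1) hij) x
          (@Subsingleton.elim _ (AddCommGrpCat.subsingleton_of_isZero (hz m)) _ _)
        exact h
      have hker : ∀ y, hC.δ m (m + 1) hij y = 0 ↔
          ∃ z, HomologicalComplex.homologyMap (natCxMap U T.g.hom) m z = y := fun y => by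
        refine ⟨fun h => (ShortComplex.ab_exact_iff _).1 (hC.homology_exact₃ m (m + 1) hij) y h, ?_⟩
        rintro ⟨z, rfl⟩
        exact ConcreteCategory.congr_hom (hC.comp_δ m (m + 1) hij) z
      match m with
      | 0 =>
        have hn : ∀ y : CohTop.H T.X₂ 0,
            HomologicalComplex.homologyMap (natCxMap U T.g.hom) 0 (e0 T.X₂ y) =
              e0 T.X₃ (Sheaf.H.map T.g 0 y) := fun y =>
          (ConcreteCategory.congr_hom (topToH0_naturality U T.g.hom) _).trans
            (congrArg (topToH0 U T.X₃.obj) (Sheaf.H.equiv₀_naturality isTerminalTop T.g y))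
        refine nonempty_addEquiv_of_surjective ((hC.δ 0 1 hij).hom.comp (e0 T.X₃).toAddMonoidHom)
          (connecting hT 0) (hsurj.comp (e0 T.X₃).surjective) (connecting_surjective hT 0 (hv 0))
          fun x => ?_
        rw [connecting_eq_zero_iff]
        refine Iff.trans (hker (e0 T.X₃ x)) ?_
        exact ⟨fun ⟨z, hz⟩ => ⟨(e0 T.X₂).symm z, (e0 T.X₃).injective <| by
          rw [← hn, AddEquiv.apply_symm_apply]; exact hz⟩,
          fun ⟨y, hy⟩ => ⟨e0 T.X₂ y, by rw [hn, hy]⟩⟩
      | m + 1 =>
        obtain ⟨e⟩ := ih (m + 1) (Nat.lt_succ_self _) T.X₃ (hP.quot hT hF hinj)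
        have hinj' : Function.Injective (hC.δ (m + 1) (m + 2) hij) :=
          (injective_iff_map_eq_zero (hC.δ (m + 1) (m + 2) hij).hom).2 fun y hy => by
            obtain ⟨z, rfl⟩ := (hker y).1 hy
            rw [@Subsingleton.elim _ (AddCommGrpCat.subsingleton_of_isZero (hz m)) z 0, map_zero]; rfl
        exact ⟨((AddEquiv.ofBijective (hC.δ (m + 1) (m + 2) hij).hom ⟨hinj', hsurj⟩).symm.trans
          e).trans (AddEquiv.ofBijective _ (connecting_bijective hT (m + 1) (hv m) (hv (m + 1))))⟩

end Groth.Agent.QCoh.Ab
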