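import Groth.Agent.SiteBase.Global
import Groth.Prelude.Def_CohTop
import Mathlib.Topology.Sheaves.MayerVietoris
import Mathlib.CategoryTheory.Sites.SheafCohomology.MayerVietoris
import Mathlib.Topology.Sheaves.SheafCondition.UniqueGluing

/-!
# Mayer–Vietoris vanishing
-/

universe u

open CategoryTheory CategoryTheory.Limits TopologicalSpace Opposite CategoryTheory.Abelian

namespace Groth.Agent.QCoh.Ab

variable {X : TopCat.{u}}

theorem subsingleton_HU_zero_bot (F : CohTop.Ab X) : Subsingleton (CohTop.HU F 0 (⊥ : Opens X)) :=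
  have : Subsingleton (F.obj.obj (op (⊥ : Opens X))) := ⟨fun s t =>
    TopCat.Sheaf.eq_of_locally_eq' F (fun i : PEmpty.{u + 1} => i.elim) ⊥ (fun i => i.elim)
      bot_le s t fun i => i.elim⟩
  (SiteBase.huZero F (⊥ : Opens X)).toEquiv.subsingleton

theorem subsingleton_HU_sup (F : CohTop.Ab X) (U V : Opens X) (n : ℕ)
    (h₁ : Subsingleton (CohTop.HU F (n + 1) U)) (h₂ : Subsingleton (CohTop.HU F (n + 1) V))
    (h₃ : Subsingleton (CohTop.HU F n (U ⊓ V))) :
    Subsingleton (CohTop.HU F (n + 1) (U ⊔ V)) := by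
  let S := Opens.mayerVietorisSquare U V
  have hex := (S.sequence_exact F n (n + 1) rfl).exact 2
  rw [ShortComplex.ab_exact_iff] at hex
  refine subsingleton_of_forall_eq 0 fun x => ?_
  have hsub : Subsingleton (F.H' (n + 1) S.X₂ ⊞ F.H' (n + 1) S.X₃ : AddCommGrpCat.{u}) :=
    have : Subsingleton ((F.H' (n + 1) S.X₂ : AddCommGrpCat.{u}) × (F.H' (n + 1) S.X₃ : AddCommGrpCat.{u})) :=
      ⟨fun a b => Prod.ext (h₁.elim _ _) (h₂.elim _ _)⟩
    (AddCommGrpCat.biprodIsoProd _ _).addCommGroupIsoToAddEquiv.toEquiv.subsingleton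
  obtain ⟨y, hy⟩ := hex x (hsub.elim _ _)
  rw [← hy, @Subsingleton.elim _ h₃ y 0]
  exact map_zero _

theorem subsingleton_H_of_HU_top (F : CohTop.Ab X) (n : ℕ)
    (h : Subsingleton (CohTop.HU F n (⊤ : Opens X))) : Subsingleton (CohTop.H F n) :=
  SiteBase.subsingleton_H_of_HU_terminal isTerminalTop F n h

end Groth.Agent.QCoh.Ab
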