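import Groth.Agent.QCoh.Ab.Push
import Groth.Agent.TriCat.RightDerivedBridge

/-!
# Vanishing of higher direct images of abelian sheaves
-/

universe u

open CategoryTheory CategoryTheory.Limits TopologicalSpace Opposite

namespace Groth.Agent.QCoh.Ab

variable {X Y : TopCat.{u}} (f : X ⟶ Y)

theorem push_isRightAdjoint : (CohTop.push f).IsRightAdjoint :=
  (TopCat.Sheaf.pullbackPushforwardAdjunction AddCommGrpCat.{u} f).isRightAdjoint

theorem push_preservesFiniteLimits : PreservesFiniteLimits (CohTop.push f) :=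
  have := push_isRightAdjoint f
  inferInstance

theorem Rpush_shift {T : ShortComplex (CohTop.Ab X)} (hT : T.ShortExact) [Injective T.X₂] (n : ℕ)
    (h : IsZero ((CohTop.Rpush f (n + 1)).obj T.X₃)) :
    IsZero ((CohTop.Rpush f (n + 2)).obj T.X₁) := by
  let : HasDerivedCategory.{u + 1} (CohTop.Ab X) := HasDerivedCategory.standard _
  let : HasDerivedCategory.{u + 1} (CohTop.Ab Y) := HasDerivedCategory.standard _
  obtain ⟨δ, w₁, w₂, w₃, -, -, h₃⟩ :=
    TriCat.exists_rightDerived_ses (CohTop.push f) hT (n + 1)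
  exact h₃.isZero_X₂ (h.eq_of_src _ _)
    ((Functor.isZero_rightDerived_obj_injective_succ (CohTop.push f) (n + 1) T.X₂).eq_of_tgt _ _)

theorem Rpush_one {T : ShortComplex (CohTop.Ab X)} (hT : T.ShortExact) [Injective T.X₂]
    (h : (T.map (CohTop.push f)).ShortExact) :
    IsZero ((CohTop.Rpush f 1).obj T.X₁) := by
  let : HasDerivedCategory.{u + 1} (CohTop.Ab X) := HasDerivedCategory.standard _
  let : HasDerivedCategory.{u + 1} (CohTop.Ab Y) := HasDerivedCategory.standard _
  obtain ⟨δ, w₁, w₂, w₃, -, -, h₃⟩ := TriCat.exists_rightDerived_ses (CohTop.push f) hT 0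
  have := push_preservesFiniteLimits f
  have : Epi ((CohTop.push f).map T.g) := h.epi_g
  have : Epi (((CohTop.push f).rightDerived 0).map T.g) := by
    have e := (CohTop.push f).rightDerivedZeroIsoSelf.hom.naturality T.g
    rw [← IsIso.eq_comp_inv, Category.assoc] at e
    rw [e]
    infer_instance
  exact h₃.isZero_X₂ ((cancel_epi (((CohTop.push f).rightDerived 0).map T.g)).1 (by rw [w₂, comp_zero]))
    ((Functor.isZero_rightDerived_obj_injective_succ (CohTop.push f) 0 T.X₂).eq_of_tgt _ _)

/-- A class of sheaves stable under injective cokernels whose injective presentations stay exact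
after direct image has vanishing higher direct images. -/
theorem Rpush_isZero_of_class (P : CohTop.Ab X → Prop)
    (hquot : ∀ {T : ShortComplex (CohTop.Ab X)}, T.ShortExact → P T.X₁ → Injective T.X₂ → P T.X₃)
    (hpush : ∀ {T : ShortComplex (CohTop.Ab X)}, T.ShortExact → P T.X₁ → Injective T.X₂ →
      (T.map (CohTop.push f)).ShortExact)
    (F : CohTop.Ab X) (hF : P F) (i : ℕ) : IsZero ((CohTop.Rpush f (i + 1)).obj F) := by
  induction i generalizing F with
  | zero =>
    exact Rpush_one f (SiteBase.injectiveSES_shortExact F)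
      (hpush (SiteBase.injectiveSES_shortExact F) hF inferInstance)
  | succ i ih =>
    exact Rpush_shift f (SiteBase.injectiveSES_shortExact F) i
      (ih _ (hquot (SiteBase.injectiveSES_shortExact F) hF inferInstance))

theorem Rpush_isZero_of_acyclic (S : CoverSystem X) (hb : PreimageBasis f S) (F : CohTop.Ab X)
    (hF : S.Acyclic F) (i : ℕ) : IsZero ((CohTop.Rpush f (i + 1)).obj F) :=
  Rpush_isZero_of_class f (fun G => S.Acyclic G)
    (fun {T} hT h₁ h₂ => Acyclic_X₃ S hT h₁ fun _ _ _ U _ => @acyclic_of_injective _ T.X₂ h₂ _ U)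
    (fun hT h₁ _ => push_shortExact f hT hb h₁) F hF i

/-- Vanishing of cohomology in degrees `≥ k` over preimages of small opens bounds the higher direct
images. -/
theorem Rpush_isZero_of_bound (B : Opens Y → Prop)
    (hB : ∀ (U : Opens Y) (y : Y), y ∈ U → ∃ W, W ≤ U ∧ y ∈ W ∧ B W) :
    ∀ (k : ℕ) (F : CohTop.Ab X),
      (∀ W, B W → ∀ q, k + 1 ≤ q → Subsingleton (CohTop.HU F q ((Opens.map f).obj W))) →
      ∀ q, k + 1 ≤ q → IsZero ((CohTop.Rpush f q).obj F) := by
  intro k
  induction k with
  | zero =>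
    intro F hF q hq
    obtain ⟨i, rfl⟩ := Nat.exists_eq_add_of_le hq
    rw [Nat.add_comm]
    refine Rpush_isZero_of_class f
      (fun G => ∀ W, B W → ∀ q, Subsingleton (CohTop.HU G (q + 1) ((Opens.map f).obj W)))
      (fun {T} hT h₁ h₂ W hW q => SiteBase.subsingleton_HU_X₃ hT _ (q + 1) (h₁ W hW (q + 1))
        (haveI := h₂; SiteBase.subsingleton_HU_of_injective T.X₂ _ q))
      (fun {T} hT h₁ _ => ?_) F (fun W hW q => hF W hW (q + 1) (by omega)) i
    have := push_isRightAdjoint f
    have := hT.mono_f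
    have : Mono (T.map (CohTop.push f)).f := inferInstanceAs (Mono ((CohTop.push f).map T.f))
    have : Epi (T.map (CohTop.push f)).g := by
      refine (TopCat.Sheaf.isLocallySurjective_iff_epi _).1
        ((TopCat.Presheaf.isLocallySurjective_iff _).2 fun U t y hy => ?_)
      obtain ⟨W, hWU, hyW, hW⟩ := hB U y hy
      exact ⟨W, hWU, SiteBase.surjective_sections_of_HU_one hT _ (h₁ W hW 0) _, hyW⟩
    exact
      { exact := ShortComplex.exact_of_f_is_kernel _
          (KernelFork.mapIsLimit _ hT.fIsKernel (CohTop.push f)) }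
  | succ k ih =>
    intro F hF q hq
    obtain ⟨i, rfl⟩ := Nat.exists_eq_add_of_le (show 2 ≤ q by omega)
    rw [Nat.add_comm]
    exact Rpush_shift f (SiteBase.injectiveSES_shortExact F) i
      (ih _ (fun W hW r hr => by
        obtain ⟨r, rfl⟩ := Nat.exists_eq_add_of_le (show 1 ≤ r by omega)
        rw [Nat.add_comm]
        exact SiteBase.subsingleton_HU_X₃ (SiteBase.injectiveSES_shortExact F) _ (r + 1)
          (hF W hW (r + 2) (by omega)) inferInstance) (i + 1) (by omega))

end Groth.Agent.QCoh.Ab
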