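import Groth.Agent.SiteBase.Top
import Groth.Agent.QCoh.Ab.MV
import Groth.Agent.QCoh.Ab.Rpush
import Mathlib.Topology.Sheaves.LocallySurjective
import Mathlib.Topology.Sheaves.Functors

/-!
# Cohomology of restrictions to open subspaces
-/

universe u

open CategoryTheory CategoryTheory.Limits TopologicalSpace Opposite Topology

namespace Groth.Agent.QCoh.Ab

variable {U X : TopCat.{u}} {j : U ⟶ X} (hj : IsOpenEmbedding j)

/-- Restriction of abelian sheaves along an open embedding. -/
noncomputable abbrev restr : CohTop.Ab X ⥤ CohTop.Ab U :=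
  have := hj.functor_isContinuous
  hj.isOpenMap.functor.sheafPushforwardContinuous AddCommGrpCat.{u} _ _

theorem preservesFiniteLimits_restr : PreservesFiniteLimits (restr hj) := by
  infer_instance

theorem restr_shortExact {T : ShortComplex (CohTop.Ab X)} (hT : T.ShortExact) :
    (T.map (restr hj)).ShortExact := by
  have := preservesFiniteLimits_restr hj
  have := hT.mono_f
  have := hT.epi_g
  have : Mono (T.map (restr hj)).f := inferInstanceAs (Mono ((restr hj).map T.f))
  have : Epi (T.map (restr hj)).g := by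
    refine (TopCat.Sheaf.isLocallySurjective_iff_epi _).1
      ((TopCat.Presheaf.isLocallySurjective_iff _).2 fun V t x hx => ?_)
    obtain ⟨W, hWV, ⟨s, hs⟩, hxW⟩ := (TopCat.Presheaf.isLocallySurjective_iff _).1
      ((TopCat.Sheaf.isLocallySurjective_iff_epi T.g).2 hT.epi_g)
      (hj.isOpenMap.functor.obj V) t (j x) ⟨x, hx, rfl⟩
    let W' : Opens U := V ⊓ (Opens.map j).obj W
    have hW' : hj.isOpenMap.functor.obj W' ≤ W := by
      rintro _ ⟨y, hy, rfl⟩; exact hy.2
    refine ⟨W', inf_le_left, ⟨T.X₂.obj.map (homOfLE hW').op s, ?_⟩, hx, hxW⟩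
    refine Eq.trans (ConcreteCategory.congr_hom (T.g.hom.naturality (homOfLE hW').op) s) ?_
    show T.X₃.obj.map (homOfLE hW').op (T.g.hom.app (op W) s) = _
    rw [hs]
    show T.X₃.obj.map _ (T.X₃.obj.map _ t) = T.X₃.obj.map _ t
    exact (ConcreteCategory.congr_hom (T.X₃.obj.map_comp _ _) t).symm
  exact
    { exact := ShortComplex.exact_of_f_is_kernel _
        (KernelFork.mapIsLimit _ hT.fIsKernel (restr hj)) }

theorem isFlasque_restr (G : CohTop.Ab X) [hG : TopCat.Sheaf.IsFlasque G] :
    TopCat.Sheaf.IsFlasque ((restr hj).obj G) where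
  epi {_ _} i := hG.epi (hj.isOpenMap.functor.map i.unop).op

/-- Vanishing of the cohomology of an open is intrinsic to it. -/
theorem subsingleton_HU_restr_iff : ∀ (n : ℕ) (F : CohTop.Ab X) (V : Opens U),
    Subsingleton (CohTop.HU ((restr hj).obj F) (n + 1) V) ↔
      Subsingleton (CohTop.HU F (n + 1) (hj.isOpenMap.functor.obj V)) := by
  intro n
  induction n with
  | zero =>
    intro F V
    have hT := SiteBase.injectiveSES_shortExact F
    have hT' := restr_shortExact hj hT
    have := SiteBase.isFlasque_of_injective (SiteBase.injectiveSES F).X₂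
    have := isFlasque_restr hj (SiteBase.injectiveSES F).X₂
    exact ⟨fun h => SiteBase.subsingleton_HU_one_X₁ hT _ inferInstance
        (SiteBase.surjective_sections_of_HU_one hT' V h :),
      fun h => SiteBase.subsingleton_HU_one_X₁ hT' V
        (SiteBase.subsingleton_HU_of_isFlasque ((restr hj).obj (SiteBase.injectiveSES F).X₂) V 0)
        (SiteBase.surjective_sections_of_HU_one hT _ h :)⟩
  | succ n ih =>
    intro F V
    have hT := SiteBase.injectiveSES_shortExact F
    have hT' := restr_shortExact hj hT
    have := SiteBase.isFlasque_of_injective (SiteBase.injectiveSES F).X₂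
    have := isFlasque_restr hj (SiteBase.injectiveSES F).X₂
    have h₂ := fun m => SiteBase.subsingleton_HU_of_isFlasque
      ((restr hj).obj (SiteBase.injectiveSES F).X₂) V m
    exact ⟨fun h => SiteBase.subsingleton_HU_X₁_succ hT _ n inferInstance
        ((ih _ V).1 (SiteBase.subsingleton_HU_X₃ hT' V (n + 1) h (h₂ n))),
      fun h => SiteBase.subsingleton_HU_X₁_succ hT' V n (h₂ (n + 1))
        ((ih _ V).2 (SiteBase.subsingleton_HU_X₃ hT _ (n + 1) h inferInstance))⟩

theorem subsingleton_H_restr (n : ℕ) (F : CohTop.Ab X) (W : Opens X)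
    (hW : (W : Set X) = Set.range j) (h : Subsingleton (CohTop.HU F (n + 1) W)) :
    Subsingleton (CohTop.H ((restr hj).obj F) (n + 1)) := by
  refine subsingleton_H_of_HU_top _ _ ((subsingleton_HU_restr_iff hj n F ⊤).2 ?_)
  have : hj.isOpenMap.functor.obj ⊤ = W := Opens.ext (Set.image_univ.trans hW.symm)
  rw [this]; exact h

theorem push_shortExact_of_isZero {T : ShortComplex (CohTop.Ab U)} (hT : T.ShortExact)
    (h : IsZero ((CohTop.Rpush j 1).obj T.X₁)) : (T.map (CohTop.push j)).ShortExact := by
  let : HasDerivedCategory.{u + 1} (CohTop.Ab U) := HasDerivedCategory.standard _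
  let : HasDerivedCategory.{u + 1} (CohTop.Ab X) := HasDerivedCategory.standard _
  obtain ⟨δ, w₁, w₂, w₃, -, h₂, -⟩ := TriCat.exists_rightDerived_ses (CohTop.push j) hT 0
  have := push_preservesFiniteLimits j
  have := push_isRightAdjoint j
  have := hT.mono_f
  have : Mono (T.map (CohTop.push j)).f := inferInstanceAs (Mono ((CohTop.push j).map T.f))
  have : Epi (((CohTop.push j).rightDerived 0).map T.g) := h₂.epi_f (h.eq_of_tgt _ _)
  have : Epi (T.map (CohTop.push j)).g := by
    have e := (CohTop.push j).rightDerivedZeroIsoSelf.hom.naturality T.g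
    rw [← IsIso.inv_comp_eq] at e
    show Epi ((CohTop.push j).map T.g)
    rw [← e]
    infer_instance
  exact
    { exact := ShortComplex.exact_of_f_is_kernel _
        (KernelFork.mapIsLimit _ hT.fIsKernel (CohTop.push j)) }

end Groth.Agent.QCoh.Ab
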