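import Groth.Agent.QCoh.Ab.Godement
import Mathlib.CategoryTheory.Sites.SheafCohomology.Basic
import Mathlib.Algebra.Homology.DerivedCategory.Ext.ExactSequences
import Mathlib.CategoryTheory.Abelian.GrothendieckCategory.HasExt
import Mathlib.CategoryTheory.Abelian.GrothendieckAxioms.Sheaf
import Mathlib.Algebra.Category.Grp.AB
import Mathlib.Topology.Sheaves.LocallySurjective
import Mathlib.Topology.Sheaves.Flasque

/-!
# Cartan's criterion on a topological space
-/

universe u

open CategoryTheory CategoryTheory.Limits TopologicalSpace Opposite CategoryTheory.Abelian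

namespace Groth.Agent.QCoh.Ab

variable {X : TopCat.{u}}

/-- A basis with a class of coverings closed enough for Cartan's criterion. -/
structure CoverSystem (X : TopCat.{u}) where
  /-- The distinguished opens. -/
  Good : Opens X → Prop
  /-- The distinguished coverings of an open. -/
  Cov : ∀ (_ : Opens X) {ι : Type u}, (ι → Opens X) → Prop
  le : ∀ {V : Opens X} {ι : Type u} {U : ι → Opens X}, Cov V U → ∀ i, U i ≤ V
  covers : ∀ {V : Opens X} {ι : Type u} {U : ι → Opens X}, Cov V U → V ≤ ⨆ i, U i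
  inter : ∀ {V : Opens X} {ι : Type u} {U : ι → Opens X}, Cov V U → ∀ {p : ℕ}
    (σ : Fin (p + 1) → ι), Good (⨅ a, U (σ a))
  exists_refinement : ∀ {V : Opens X}, Good V → ∀ (N : V → Opens X), (∀ x : V, x.1 ∈ N x) →
    ∃ (ι : Type u) (U : ι → Opens X), Cov V U ∧ ∀ i, ∃ x, U i ≤ N x

/-- Sheaves with vanishing Cech cohomology for all distinguished coverings. -/
def CoverSystem.Acyclic (S : CoverSystem X) (F : TopCat.Sheaf AddCommGrpCat.{u} X) : Prop :=
  ∀ (V : Opens X), S.Good V → ∀ {ι : Type u} (U : ι → Opens X), S.Cov V U →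
    Ab.Acyclic F.presheaf U

variable {T : ShortComplex (TopCat.Sheaf AddCommGrpCat.{u} X)}

theorem sections_f_injective (hT : T.ShortExact) (W : Opens X) :
    Function.Injective (T.f.hom.app (op W)) := by
  have := hT.mono_f
  have : PreservesLimitsOfShape WalkingCospan (TopCat.Sheaf.forget AddCommGrpCat.{u} X) :=
    inferInstance
  have : Mono T.f.hom :=
    inferInstanceAs (Mono ((TopCat.Sheaf.forget AddCommGrpCat.{u} X).map T.f))
  have h : Mono (T.f.hom.app (op W)) := (NatTrans.mono_iff_mono_app _).1 this _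
  exact (AddCommGrpCat.mono_iff_injective _).1 h

theorem g_f_zero (W : Opens X) (x : T.X₁.obj.obj (op W)) :
    T.g.hom.app (op W) (T.f.hom.app (op W) x) = 0 :=
  congr($(congrArg (fun φ : T.X₁ ⟶ T.X₃ => φ.hom.app (op W)) T.zero) x)

theorem push_f_injective (hT : T.ShortExact) {ι : Type u} {U : ι → Opens X} {p : ℕ}
    {a b : Cochain T.X₁.presheaf U p} (h : push T.f.hom a = push T.f.hom b) : a = b := by
  funext σ W
  exact sections_f_injective hT W.1 (congrFun (congrFun h σ) W)

theorem exists_cochain_lift (hT : T.ShortExact) {ι : Type u} {U : ι → Opens X} {p : ℕ}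
    (c : Cochain T.X₂.presheaf U p) (hc : IsNatural c) (h : push T.g.hom c = 0) :
    ∃ a : Cochain T.X₁.presheaf U p, IsNatural a ∧ push T.f.hom a = c := by
  choose a ha using fun σ (W : {W : Opens X // Le U σ W}) =>
    TopCat.Sheaf.sections_exact_of_left_exact (U := W.1) hT.exact hT.mono_f (c σ W)
      (congrFun (congrFun h σ) W)
  refine ⟨a, fun σ W W' hW hW' i => sections_f_injective hT W' ?_, funext₂ ha⟩
  exact (congr($(T.f.hom.naturality i.op) (a σ ⟨W, hW⟩))).trans
    ((congrArg (T.X₂.obj.map i.op) (ha σ ⟨W, hW⟩)).trans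
      ((hc σ W W' hW hW' i).trans (ha σ ⟨W', hW'⟩).symm))

theorem sections_surjective (S : CoverSystem X) (hT : T.ShortExact) (h₁ : S.Acyclic T.X₁)
    {V : Opens X} (hV : S.Good V) : Function.Surjective (T.g.hom.app (op V)) := by
  intro q
  haveI := hT.epi_g
  have hsurj := (TopCat.Presheaf.isLocallySurjective_iff T.g.hom).1
    ((TopCat.Sheaf.isLocallySurjective_iff_epi T.g).2 inferInstance)
  choose N hNV hN hxN using fun x : V => hsurj V q x.1 x.2
  obtain ⟨ι, U, hU, hUN⟩ := S.exists_refinement hV N hxN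
  choose x hx using hUN
  choose l hl using hN
  have hUV : ∀ i, U i ≤ V := S.le hU
  let li : ∀ i, T.X₂.presheaf.obj (op (U i)) := fun i => T.X₂.presheaf.map (homOfLE (hx i)).op (l (x i))
  have hli : ∀ i, T.g.hom.app (op (U i)) (li i) = T.X₃.presheaf.map (homOfLE (hUV i)).op q := by
    intro i
    refine (congr($(T.g.hom.naturality (homOfLE (hx i)).op) (l (x i)))).trans ?_
    refine (congrArg _ (hl (x i))).trans ?_
    exact congr($((T.X₃.presheaf.map_comp _ _).symm) q)
  let c : Cochain T.X₂.presheaf U 1 := fun σ W => T.X₂.presheaf.map (homOfLE (W.2 0)).op (li (σ 0))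
  have hc : IsNatural c := fun σ W W' hW hW' i => congr($((T.X₂.presheaf.map_comp _ _).symm) (li (σ 0)))
  have hgc : push T.g.hom (d c) = 0 := by
    funext σ W
    have h : ∀ τ (W' : {W' : Opens X // Le U τ W'}), push T.g.hom c τ W' =
        T.X₃.presheaf.map (homOfLE ((W'.2 0).trans (hUV _))).op q := by
      intro τ W'
      refine (congr($(T.g.hom.naturality (homOfLE (W'.2 0)).op) (li (τ 0)))).trans ?_
      refine (congrArg _ (hli _)).trans ?_
      exact congr($((T.X₃.presheaf.map_comp _ _).symm) q)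
    rw [← d_push, d]
    simp [Fin.sum_univ_two, h]
  obtain ⟨a, han, ha⟩ := exists_cochain_lift hT (d c) (d_natural hc) hgc
  obtain ⟨b, hbn, hb⟩ := h₁ V hV U hU 0 a han (by
    refine push_f_injective hT ?_
    rw [← d_push, ha, d_d]
    funext σ W
    exact (map_zero _).symm)
  let c' := c - push T.f.hom b
  have hc'n : IsNatural c' := fun σ W W' hW hW' i => by
    simp only [c', Pi.sub_apply, map_sub, hc σ W W' hW hW' i, push_natural _ hbn σ W W' hW hW' i]
  have hdc' : d c' = 0 := by
    rw [d_sub, d_push, hb, ha, sub_self]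
  let t : ∀ i, T.X₂.presheaf.obj (op (U i)) := fun i => c' (fun _ => i) ⟨U i, fun _ => le_rfl⟩
  obtain ⟨s, hs, -⟩ := TopCat.Sheaf.existsUnique_gluing' T.X₂ U V (fun i => homOfLE (hUV i))
    (S.covers hU) t (fun i j => by
      refine (hc'n (fun _ => i) (U i) (U i ⊓ U j) (fun _ => le_rfl) (fun _ => inf_le_left) _).trans
        (Eq.trans ?_ (hc'n (fun _ => j) (U j) (U i ⊓ U j) (fun _ => le_rfl) (fun _ => inf_le_right) _).symm)
      have e := congrFun (congrFun hdc' (Fin.cons i fun _ => j))
        ⟨U i ⊓ U j, Fin.cases inf_le_left fun _ => inf_le_right⟩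
      rw [d_cons c' i (fun _ => j) (U i ⊓ U j) inf_le_left fun _ => inf_le_right] at e
      simp only [Pi.zero_apply, sub_eq_zero] at e
      rw [show (∑ a : Fin (0 + 1), (-1 : ℤ) ^ (a : ℕ) • c' (Fin.cons i fun _ => j)
        ⟨U i ⊓ U j, Fin.cases inf_le_left fun _ => inf_le_right⟩) =
          c' (Fin.cons i fun _ => j) ⟨U i ⊓ U j, Fin.cases inf_le_left fun _ => inf_le_right⟩ by
        simp [Fin.sum_univ_one]] at e
      refine Eq.trans ?_ e.symm
      have hfun : (fun _ : Fin 1 => i) = Fin.cons i (fun b : Fin 0 => b.elim0) :=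
        funext fun k => by rw [Subsingleton.elim k 0]; rfl
      have : ∀ (τ τ' : Fin 1 → ι) (_ : τ = τ') (h : Le U τ (U i ⊓ U j)) (h' : Le U τ' (U i ⊓ U j)),
          c' τ ⟨_, h⟩ = c' τ' ⟨_, h'⟩ := by rintro _ _ rfl _ _; rfl
      exact this _ _ (funext fun k => by rw [Subsingleton.elim k 0]; rfl) _ _)
  refine ⟨s, TopCat.Sheaf.eq_of_locally_eq' T.X₃ U V (fun i => homOfLE (hUV i)) (S.covers hU) _ _
    fun i => ?_⟩
  refine (congr($(T.g.hom.naturality (homOfLE (hUV i)).op) s)).symm.trans ?_
  refine (congrArg (T.g.hom.app (op (U i))) (hs i)).trans ?_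
  refine (map_sub (T.g.hom.app (op (U i))).hom _ _).trans ?_
  refine (congrArg₂ (fun a b => a - b) ?_ (g_f_zero _ _)).trans (sub_zero _)
  refine Eq.trans ?_ (hli i)
  exact congrArg _ (congr($(T.X₂.presheaf.map_id _) (li i)))

theorem Acyclic_X₃ (S : CoverSystem X) (hT : T.ShortExact) (h₁ : S.Acyclic T.X₁)
    (h₂ : S.Acyclic T.X₂) : S.Acyclic T.X₃ := by
  intro V hV ι U hU p q hqn hdq
  choose l hl using fun σ : Fin (p + 2) → ι => sections_surjective S hT h₁ (S.inter hU σ)
    (q σ ⟨⨅ a, U (σ a), fun a => iInf_le _ a⟩)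
  let c : Cochain T.X₂.presheaf U (p + 2) := fun σ W => T.X₂.presheaf.map (homOfLE (le_iInf W.2)).op (l σ)
  have hc : IsNatural c := fun σ W W' hW hW' i => congr($((T.X₂.presheaf.map_comp _ _).symm) (l σ))
  have hgc : push T.g.hom c = q := by
    funext σ W
    refine (congr($(T.g.hom.naturality (homOfLE (le_iInf W.2)).op) (l σ))).trans ?_
    refine (congrArg _ (hl σ)).trans ?_
    exact hqn σ _ W.1 _ W.2 _
  obtain ⟨a, han, ha⟩ := exists_cochain_lift hT (d c) (d_natural hc) (by rw [← d_push, hgc, hdq])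
  obtain ⟨b, hbn, hb⟩ := h₁ V hV U hU (p + 1) a han (by
    refine push_f_injective hT ?_
    rw [← d_push, ha, d_d]
    funext σ W
    exact (map_zero _).symm)
  obtain ⟨e, hen, he⟩ := h₂ V hV U hU p (c - push T.f.hom b)
    (fun σ W W' hW hW' i => by
      simp only [Pi.sub_apply, map_sub, hc σ W W' hW hW' i, push_natural _ hbn σ W W' hW hW' i])
    (by rw [d_sub, d_push, hb, ha, sub_self])
  refine ⟨push T.g.hom e, push_natural _ hen, ?_⟩
  rw [d_push, he, push_sub, hgc]
  funext σ W
  simp [push, g_f_zero]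

/-- Cartan's criterion: vanishing Cech cohomology gives vanishing cohomology. -/
theorem H_subsingleton (S : CoverSystem X) (htop : S.Good ⊤) (F : TopCat.Sheaf AddCommGrpCat.{u} X)
    (hF : S.Acyclic F) (n : ℕ)
    [IsGrothendieckAbelian.{u} (Sheaf (Opens.grothendieckTopology X) AddCommGrpCat.{u})] :
    Subsingleton (Sheaf.H (J := Opens.grothendieckTopology X) F (n + 1)) := by
  induction n generalizing F with
  | zero =>
    let T : ShortComplex (TopCat.Sheaf AddCommGrpCat.{u} X) :=
      ShortComplex.mk (Injective.ι F) (cokernel.π (Injective.ι F)) (cokernel.condition _)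
    have hT : T.ShortExact :=
      { exact := ShortComplex.exact_of_g_is_cokernel _ (cokernelIsCokernel _) }
    refine subsingleton_of_forall_eq 0 fun x => ?_
    obtain ⟨q, hq⟩ := Ext.covariant_sequence_exact₁ _ hT x (Ext.eq_zero_of_injective _) (zero_add 1)
    obtain ⟨i, hi⟩ : ∃ i, Sheaf.H.map T.g 0 i = q := by
      obtain ⟨i₀, hi₀⟩ := sections_surjective S hT hF htop (Sheaf.H.equiv₀ _ isTerminalTop q)
      exact ⟨(Sheaf.H.equiv₀ _ isTerminalTop).symm i₀, by
        rw [Sheaf.H.equiv₀_symm_naturality, hi₀, AddEquiv.symm_apply_apply]⟩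
    rw [← hq, ← hi, Sheaf.H.map_apply]
    refine (Ext.comp_assoc_of_second_deg_zero i (Ext.mk₀ T.g) hT.extClass _).trans ?_
    exact (congrArg (fun z => Ext.comp i z _) hT.comp_extClass).trans (Ext.comp_zero _ _ _ _ _)
  | succ n ih =>
    let T : ShortComplex (TopCat.Sheaf AddCommGrpCat.{u} X) :=
      ShortComplex.mk (Injective.ι F) (cokernel.π (Injective.ι F)) (cokernel.condition _)
    have hT : T.ShortExact :=
      { exact := ShortComplex.exact_of_g_is_cokernel _ (cokernelIsCokernel _) }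
    have h₂ : S.Acyclic T.X₂ := fun _ _ _ U _ =>
      haveI : Injective T.X₂ := inferInstanceAs (Injective (Injective.under F))
      acyclic_of_injective T.X₂ U
    have := ih T.X₃ (Acyclic_X₃ S hT hF h₂)
    refine subsingleton_of_forall_eq 0 fun x => ?_
    obtain ⟨q, hq⟩ := Ext.covariant_sequence_exact₁ _ hT x (Ext.eq_zero_of_injective _) rfl
    have hq0 : q = 0 := @Subsingleton.elim _ this q 0
    rw [← hq, hq0]
    exact Ext.zero_comp _ _ _ _ _

end Groth.Agent.QCoh.Ab
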