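import Mathlib.Topology.Sheaves.AddCommGrpCat
import Mathlib.Topology.Sheaves.Sheaf
import Mathlib.Algebra.BigOperators.Fin
import Mathlib.Data.Fin.Tuple.Basic

/-!
# Element-wise Cech cochains

A cochain of degree `p` for a family `U` assigns to a tuple `σ` and an open `W` contained in all
`U (σ a)` a section over `W`, compatibly with restrictions.
-/

universe u

open CategoryTheory TopologicalSpace Opposite

namespace Groth.Agent.QCoh.Ab

/-- The alternating sum of the faces of a function on tuples. -/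
def delta {α A : Type*} [AddCommGroup A] {n : ℕ} (g : (Fin n → α) → A) (τ : Fin (n + 1) → α) : A :=
  ∑ a : Fin (n + 1), (-1 : ℤ) ^ (a : ℕ) • g (fun b => τ (a.succAbove b))

theorem delta_cons {α A : Type*} [AddCommGroup A] {n : ℕ} (g : (Fin (n + 1) → α) → A) (i : α)
    (τ : Fin (n + 1) → α) :
    delta g (Fin.cons i τ) = g τ - delta (fun ρ => g (Fin.cons i ρ)) τ := by
  rw [delta, Fin.sum_univ_succ, delta, sub_eq_add_neg, ← Finset.sum_neg_distrib]
  congr 1
  · simp
  · refine Finset.sum_congr rfl fun a _ => ?_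
    rw [Fin.val_succ, pow_succ, mul_comm, mul_smul, neg_one_smul]
    congr 3
    funext b
    refine Fin.cases ?_ (fun b => ?_) b <;> simp

theorem delta_sub {α A : Type*} [AddCommGroup A] {n : ℕ} (g g' : (Fin n → α) → A) :
    delta (fun σ => g σ - g' σ) = fun τ => delta g τ - delta g' τ := by
  funext τ
  simp [delta, smul_sub, Finset.sum_sub_distrib]

theorem delta_delta {α A : Type*} [AddCommGroup A] {n : ℕ} (g : (Fin n → α) → A)
    (τ : Fin (n + 2) → α) : delta (delta g) τ = 0 := by
  induction n with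
  | zero =>
    simp only [delta, Fin.sum_univ_succ, Finset.univ_eq_empty, Finset.sum_empty, add_zero]
    simp [Subsingleton.elim (α := Fin 0 → α) _ (fun b => b.elim0)]
  | succ n ih =>
    obtain ⟨i, τ', rfl⟩ : ∃ i τ', τ = Fin.cons i τ' := ⟨τ 0, Fin.tail τ, (Fin.cons_self_tail τ).symm⟩
    rw [delta_cons]
    have h : (fun ρ => delta g (Fin.cons i ρ)) = fun ρ => g ρ - delta (fun π => g (Fin.cons i π)) ρ :=
      funext fun ρ => delta_cons g i ρ
    rw [h, delta_sub]
    simp [ih]

variable {X : TopCat.{u}} {ι : Type u}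

/-- `W` is contained in all members `U (σ a)`. -/
def Le (U : ι → Opens X) {p : ℕ} (σ : Fin p → ι) (W : Opens X) : Prop := ∀ a, W ≤ U (σ a)

/-- Cochains, not yet required to be compatible with restriction. -/
abbrev Cochain (P : TopCat.Presheaf AddCommGrpCat.{u} X) (U : ι → Opens X) (p : ℕ) : Type u :=
  ∀ (σ : Fin p → ι) (W : {W : Opens X // Le U σ W}), P.obj (op W.1)

variable {P Q : TopCat.Presheaf AddCommGrpCat.{u} X} {U : ι → Opens X}

/-- Compatibility of a cochain with restrictions. -/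
def IsNatural {p : ℕ} (c : Cochain P U p) : Prop :=
  ∀ (σ : Fin p → ι) (W W' : Opens X) (h : Le U σ W) (h' : Le U σ W') (i : W' ⟶ W),
    P.map i.op (c σ ⟨W, h⟩) = c σ ⟨W', h'⟩

/-- The Cech differential. -/
def d {p : ℕ} (c : Cochain P U p) : Cochain P U (p + 1) := fun σ W =>
  ∑ a : Fin (p + 1), (-1 : ℤ) ^ (a : ℕ) •
    c (fun b => σ (a.succAbove b)) ⟨W.1, fun b => W.2 (a.succAbove b)⟩

theorem d_natural {p : ℕ} {c : Cochain P U p} (hc : IsNatural c) : IsNatural (d c) := by
  intro σ W W' h h' i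
  simp only [d, map_sum, map_zsmul]
  exact Finset.sum_congr rfl fun a _ => by rw [hc _ W W' _ (fun b => h' _) i]

theorem d_sub {p : ℕ} (c c' : Cochain P U p) : d (c - c') = d c - d c' := by
  funext σ W
  simp [d, smul_sub, Finset.sum_sub_distrib]

/-- Applying a morphism of presheaves to a cochain. -/
def push (φ : P ⟶ Q) {p : ℕ} (c : Cochain P U p) : Cochain Q U p := fun σ W =>
  φ.app (op W.1) (c σ W)

theorem push_natural (φ : P ⟶ Q) {p : ℕ} {c : Cochain P U p} (hc : IsNatural c) :
    IsNatural (push φ c) := by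
  intro σ W W' h h' i
  rw [push, push, ← hc σ W W' h h' i]
  exact congr($((φ.naturality i.op).symm) (c σ ⟨W, h⟩))

theorem d_push (φ : P ⟶ Q) {p : ℕ} (c : Cochain P U p) : d (push φ c) = push φ (d c) := by
  funext σ W
  simp [d, push, map_sum, map_zsmul]

theorem push_sub (φ : P ⟶ Q) {p : ℕ} (c c' : Cochain P U p) :
    push φ (c - c') = push φ c - push φ c' := by
  funext σ W
  simp [push]

/-- Extension of a cochain to all tuples, on a fixed open. -/
noncomputable def extend {p : ℕ} (c : Cochain P U p) (W : Opens X) (σ : Fin p → ι) : P.obj (op W) :=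
  open Classical in if h : Le U σ W then c σ ⟨W, h⟩ else 0

theorem d_eq_delta {p : ℕ} (c : Cochain P U p) (σ : Fin (p + 1) → ι) (W : Opens X) (h : Le U σ W) :
    d c σ ⟨W, h⟩ = delta (extend c W) σ := by
  refine Finset.sum_congr rfl fun a _ => ?_
  rw [extend, dif_pos]

theorem extend_d {p : ℕ} (c : Cochain P U p) (W : Opens X) {σ : Fin (p + 1) → ι} (h : Le U σ W) :
    extend (d c) W σ = delta (extend c W) σ := by
  rw [extend, dif_pos h, d_eq_delta]

theorem d_d {p : ℕ} (c : Cochain P U p) : d (d c) = 0 := by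
  funext σ W
  rw [d_eq_delta]
  refine Eq.trans ?_ (delta_delta (extend c W.1) σ)
  exact Finset.sum_congr rfl fun a _ => by rw [extend_d c W.1 fun b => W.2 (a.succAbove b)]

theorem d_cons {p : ℕ} (c : Cochain P U (p + 1)) (i : ι) (τ : Fin (p + 1) → ι) (W : Opens X)
    (hi : W ≤ U i) (hτ : Le U τ W) :
    d c (Fin.cons i τ) ⟨W, Fin.cases hi hτ⟩ = c τ ⟨W, hτ⟩ -
      ∑ a : Fin (p + 1), (-1 : ℤ) ^ (a : ℕ) • c (Fin.cons i fun b => τ (a.succAbove b))
        ⟨W, Fin.cases hi fun b => hτ (a.succAbove b)⟩ := by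
  rw [d_eq_delta, delta_cons, delta]
  congr 1
  · rw [extend, dif_pos]
  · refine Finset.sum_congr rfl fun a _ => ?_
    rw [extend, dif_pos]

variable (P U) in
/-- Vanishing of the Cech cohomology in all positive degrees. -/
def Acyclic : Prop :=
  ∀ (p : ℕ) (c : Cochain P U (p + 2)), IsNatural c → d c = 0 →
    ∃ h : Cochain P U (p + 1), IsNatural h ∧ d h = c

theorem Acyclic.of_retract (hP : Acyclic P U) (i : Q ⟶ P) (r : P ⟶ Q) (hr : i ≫ r = 𝟙 Q) :
    Acyclic Q U := by
  intro p c hc hd
  obtain ⟨h, hn, hh⟩ := hP p (push i c) (push_natural i hc) (by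
    rw [d_push, hd]; funext σ W; simp [push])
  refine ⟨push r h, push_natural r hn, ?_⟩
  rw [d_push, hh]
  funext σ W
  exact congr($(hr).app (op W.1) (c σ W))

end Groth.Agent.QCoh.Ab
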