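import Groth.Agent.QCoh.Ab.Cech
import Mathlib.Topology.Sheaves.SheafOfFunctions
import Mathlib.Topology.Sheaves.Stalks
import Mathlib.Topology.Sheaves.Forget
import Mathlib.CategoryTheory.Preadditive.Injective.Basic
import Mathlib.Algebra.Category.Grp.Limits
import Mathlib.Algebra.Category.Grp.FilteredColimits

/-!
# The Godement sheaf: Cech acyclic, and injective sheaves are retracts of it
-/

universe u

open CategoryTheory TopologicalSpace Opposite

namespace Groth.Agent.QCoh.Ab

variable {X : TopCat.{u}}

/-- All (not necessarily continuous) sections of a family of groups. -/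
def pointwise (A : X → AddCommGrpCat.{u}) : TopCat.Presheaf AddCommGrpCat.{u} X where
  obj W := AddCommGrpCat.of (∀ x : W.unop, A x.1)
  map i := AddCommGrpCat.ofHom
    { toFun := fun s x => s ⟨x.1, i.unop.le x.2⟩
      map_zero' := rfl
      map_add' := fun _ _ => rfl }

theorem pointwise_isSheaf (A : X → AddCommGrpCat.{u}) : (pointwise A).IsSheaf :=
  (TopCat.Presheaf.isSheaf_iff_isSheaf_comp (forget AddCommGrpCat.{u}) _).2
    (TopCat.Presheaf.toTypes_isSheaf X fun x => (A x : Type u))

theorem pointwise_sum_apply (A : X → AddCommGrpCat.{u}) {W : Opens X} {κ : Type*} (s : Finset κ)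
    (f : κ → (pointwise A).obj (op W)) (x : W) : (∑ a ∈ s, f a) x = ∑ a ∈ s, f a x :=
  map_sum (AddMonoidHom.mk' (fun g : (pointwise A).obj (op W) => g x) fun _ _ => rfl) f s

/-- A cocycle of pointwise sections is a coboundary, for every family of opens. -/
theorem pointwise_acyclic (A : X → AddCommGrpCat.{u}) {ι : Type u} (U : ι → Opens X) :
    Acyclic (pointwise A) U := by
  classical
  intro p c hc hd
  let h : Cochain (pointwise A) U (p + 1) := fun τ W x =>
    have hx : ∃ i, x.1 ∈ U i := ⟨τ 0, W.2 0 x.2⟩
    c (Fin.cons hx.choose τ)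
      ⟨W.1 ⊓ U hx.choose, Fin.cases inf_le_right fun b => inf_le_left.trans (W.2 b)⟩
      ⟨x.1, x.2, hx.choose_spec⟩
  refine ⟨h, fun τ W W' hW hW' i => funext fun x => ?_, ?_⟩
  · have hx : ∃ j, x.1 ∈ U j := ⟨τ 0, hW' 0 x.2⟩
    exact congrFun (hc (Fin.cons hx.choose τ) (W ⊓ U hx.choose) (W' ⊓ U hx.choose)
      (Fin.cases inf_le_right fun b => inf_le_left.trans (hW b))
      (Fin.cases inf_le_right fun b => inf_le_left.trans (hW' b))
      (homOfLE (inf_le_inf_right _ i.le))) ⟨x.1, x.2, hx.choose_spec⟩
  · funext σ W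
    refine funext fun x => ?_
    have hx : ∃ i, x.1 ∈ U i := ⟨σ 0, W.2 0 x.2⟩
    let V : Opens X := W.1 ⊓ U hx.choose
    have hV : x.1 ∈ V := ⟨x.2, hx.choose_spec⟩
    have e := congrFun (congrFun hd (Fin.cons hx.choose σ))
      ⟨V, Fin.cases inf_le_right fun b => inf_le_left.trans (W.2 b)⟩
    have e' := (d_cons c hx.choose σ V inf_le_right fun b => inf_le_left.trans (W.2 b)).symm.trans e
    have e'' := congrFun (sub_eq_zero.1 e') ⟨x.1, hV⟩
    replace e'' := e''.trans (pointwise_sum_apply A _ _ ⟨x.1, hV⟩)
    have e3 := congrFun (hc σ W.1 V W.2 (fun b => inf_le_left.trans (W.2 b)) (homOfLE inf_le_left))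
      ⟨x.1, hV⟩
    refine Eq.trans ?_ (e''.symm.trans e3.symm)
    rw [d]
    exact pointwise_sum_apply A _ _ x

/-- The Godement sheaf of an abelian sheaf. -/
noncomputable def godement (F : TopCat.Sheaf AddCommGrpCat.{u} X) :
    TopCat.Sheaf AddCommGrpCat.{u} X :=
  ⟨pointwise fun x => F.presheaf.stalk x, pointwise_isSheaf _⟩

/-- The embedding into the Godement sheaf. -/
noncomputable def toGodement (F : TopCat.Sheaf AddCommGrpCat.{u} X) : F ⟶ godement F :=
  ⟨{ app := fun W => AddCommGrpCat.ofHom
      { toFun := fun s x => F.presheaf.germ W.unop x.1 x.2 s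
        map_zero' := funext fun x => map_zero _
        map_add' := fun _ _ => funext fun x => map_add _ _ _ }
     naturality := fun W W' i => by
      ext s
      exact funext fun x => TopCat.Presheaf.germ_res_apply F.presheaf i.unop x.1 x.2 s }⟩

instance (F : TopCat.Sheaf AddCommGrpCat.{u} X) : Mono (toGodement F) := by
  have : Mono (toGodement F).hom := by
    refine @NatTrans.mono_of_mono_app _ _ _ _ _ _ _ fun W => ?_
    refine ConcreteCategory.mono_of_injective _ fun s t hst => ?_
    exact TopCat.Presheaf.section_ext F W.unop s t fun x hx => congrFun hst ⟨x, hx⟩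
  exact (sheafToPresheaf _ _).mono_of_mono_map this

theorem acyclic_of_injective (F : TopCat.Sheaf AddCommGrpCat.{u} X) [Injective F] {ι : Type u}
    (U : ι → Opens X) : Acyclic F.presheaf U :=
  Acyclic.of_retract (pointwise_acyclic (fun x => F.presheaf.stalk x) U) (toGodement F).hom
    (Injective.factorThru (𝟙 F) (toGodement F)).hom
    (congrArg (fun φ : F ⟶ F => φ.hom) (Injective.comp_factorThru (𝟙 F) (toGodement F)))

theorem restrict_surjective_of_injective (F : TopCat.Sheaf AddCommGrpCat.{u} X) [Injective F]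
    {U V : Opens X} (i : V ⟶ U) : Function.Surjective (F.presheaf.map i.op) := by
  classical
  intro s
  let g : (godement F).presheaf.obj (op U) := fun x =>
    if hx : x.1 ∈ V then F.presheaf.germ V x.1 hx s else 0
  refine ⟨(Injective.factorThru (𝟙 F) (toGodement F)).hom.app (op U) g, ?_⟩
  refine (congr($(((Injective.factorThru (𝟙 F) (toGodement F)).hom.naturality i.op).symm) g)).trans ?_
  refine Eq.trans ?_ (congr($(Injective.comp_factorThru (𝟙 F) (toGodement F)).hom.app (op V) s))
  refine congrArg ((Injective.factorThru (𝟙 F) (toGodement F)).hom.app (op V)) ?_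
  refine funext fun x => ?_
  exact dif_pos x.2

end Groth.Agent.QCoh.Ab
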